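/-
Finite enumeration of the elements of `Cfsg.M24` with prescribed images of base points, and the
orders of subsets given by lists.

Main results: `app`, `tails`, `exists_tail`, `cands`, `exists_cand`, `same`, `natCard_of_enum`.
-/
import Cfsg.Agent.Lib.GolayOrbitLists.Engine

set_option autoImplicit false
open scoped Pointwise
open Cfsg Cfsg.Agent.Golay

namespace Cfsg.Agent.GolayClasses

/-- A product of coded permutations on bit indices. -/
def app (ds : List ℕ) (i : ℕ) : ℕ := ds.foldr fn i

/-- The elements fixing the first `7 - j` base points, as products. -/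
def tails : ℕ → List (List ℕ)
  | 0 => [[]]
  | j + 1 => (transTable.getD (6 - j) []).flatMap fun d => (tails j).map (d :: ·)

theorem exists_tail : ∀ (j : ℕ), j ≤ 7 → ∀ g ∈ chain (7 - j),
    ∃ ds ∈ tails j, ∀ p, idx (g p) = app ds (idx p)
  | 0, _, g, hg => by
    rw [show 7 - 0 = 7 from rfl, chain_seven, Subgroup.mem_bot] at hg
    exact ⟨[], by simp [tails], fun p => by rw [hg]; rfl⟩
  | j + 1, hj, g, hg => by
    obtain ⟨d, hd, haut, hrest⟩ := exists_transversal_mem (k := 7 - (j + 1)) (by omega) hg
    rw [show 7 - (j + 1) + 1 = 7 - j by omega] at hrest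
    rw [show 7 - (j + 1) = 6 - j by omega] at hd
    obtain ⟨ds, hds, hval⟩ := exists_tail j (by omega) _ hrest
    refine ⟨d :: ds, List.mem_flatMap.mpr ⟨d, hd, List.mem_map_of_mem hds⟩, fun p => ?_⟩
    calc idx (g p) = idx (toPerm d (((toPerm d)⁻¹ * g) p)) := by simp
      _ = fn d (app ds (idx p)) := by rw [idx_toPerm (validPerm_of_isAut haut), hval]
      _ = app (d :: ds) (idx p) := rfl

/-- The products of a head with a tail. -/
def cands (heads : List ℕ) (j : ℕ) : List (List ℕ) :=
  heads.flatMap fun t => (tails j).map (t :: ·)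

/-- An element agreeing with a head on the first `k` base points is a candidate. -/
theorem exists_cand {heads : List ℕ} {t k : ℕ} (ht : t ∈ heads) (haut : isAut t = true)
    (hk : k ≤ 7) {g : Equiv.Perm GolayPt} (hg : g ∈ M24)
    (hag : ∀ i < k, idx (g (bpt i)) = fn t (baseIdx.getD i 0)) :
    ∃ ds ∈ cands heads (7 - k), ∀ p, idx (g p) = app ds (idx p) := by
  have hv := validPerm_of_isAut haut
  have hmem : (toPerm t)⁻¹ * g ∈ chain (7 - (7 - k)) := by
    refine mem_chain.mpr ⟨mul_mem (inv_mem (toPerm_mem_M24 haut)) hg, fun i hi => ?_⟩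
    rw [Equiv.Perm.mul_apply, Equiv.Perm.inv_eq_iff_eq]
    apply idx_injective
    rw [hag i (by omega), idx_toPerm hv, idx_bpt i (by omega)]
  obtain ⟨ds, hds, hval⟩ := exists_tail (7 - k) (by omega) _ hmem
  refine ⟨t :: ds, List.mem_flatMap.mpr ⟨t, ht, List.mem_map_of_mem hds⟩, fun p => ?_⟩
  calc idx (g p) = idx (toPerm t (((toPerm t)⁻¹ * g) p)) := by simp
    _ = fn t (app ds (idx p)) := by rw [idx_toPerm hv, hval]
    _ = app (t :: ds) (idx p) := rfl

/-- `d` codes the permutation `f`. -/
def same (d : ℕ) (f : ℕ → ℕ) : Bool := (List.range 24).all fun i => fn d i == f i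

theorem toPerm_eq_of_same {d : ℕ} {f : ℕ → ℕ} (hd : validPerm d = true) (h : same d f = true)
    {g : Equiv.Perm GolayPt} (hg : ∀ p, idx (g p) = f (idx p)) : toPerm d = g := by
  simp only [same, List.all_eq_true, List.mem_range, beq_iff_eq] at h
  exact Equiv.ext fun p => idx_injective (by rw [idx_toPerm hd, hg, h _ (idx_lt p)])

/-- The images of the base packed into one number. -/
def frameKey (d : ℕ) : ℕ := baseIdx.foldr (fun b acc => acc * 32 + fn d b) 0

/-- A list of distinct coded elements has as many members as it has entries. -/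
theorem natCard_of_enum {P : Equiv.Perm GolayPt → Prop} (E : List ℕ)
    (haut : E.all isAut = true) (hkey : GolayOrbitLists.allNew (E.map frameKey) .nil = true)
    (hmem : ∀ d ∈ E, P (toPerm d)) (hex : ∀ g, P g → ∃ d ∈ E, toPerm d = g) :
    Nat.card {g // P g} = E.length := by
  classical
  have hnd : (E.map toPerm).Nodup := by
    refine (List.nodup_map_iff_inj_on ?_).mpr fun a ha b hb h => ?_
    · exact List.Nodup.of_map _ (GolayOrbitLists.allNew_spec _ _ hkey).1
    · refine List.inj_on_of_nodup_map (GolayOrbitLists.allNew_spec _ _ hkey).1 ha hb ?_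
      have ha' := validPerm_of_isAut (List.all_eq_true.mp haut a ha)
      have hb' := validPerm_of_isAut (List.all_eq_true.mp haut b hb)
      have hbv : ∀ x ∈ baseIdx, fn a x = fn b x := fun x hx => by
        have hx' : x < 24 := (by decide : ∀ x ∈ baseIdx, x < 24) x hx
        have e := congrArg (fun g : Equiv.Perm GolayPt => idx (g (pt x))) h
        simpa [idx_toPerm ha', idx_toPerm hb', idx_pt hx'] using e
      simp only [frameKey]
      generalize baseIdx = l at hbv ⊢
      induction l with
      | nil => rfl
      | cons x l ih =>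
        rw [List.foldr_cons, List.foldr_cons, hbv x List.mem_cons_self,
          ih fun y hy => hbv y (List.mem_cons_of_mem _ hy)]
  have e : {g : Equiv.Perm GolayPt // P g} ≃ {g // g ∈ (E.map toPerm).toFinset} :=
    Equiv.subtypeEquivRight fun g => by
      simp only [List.mem_toFinset, List.mem_map]
      exact ⟨fun h => hex g h, fun ⟨d, hd, hdg⟩ => hdg ▸ hmem d hd⟩
  rw [Nat.card_congr e, Nat.card_eq_fintype_card, Fintype.card_coe,
    List.toFinset_card_of_nodup hnd, List.length_map]

end Cfsg.Agent.GolayClasses
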