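/-
The centraliser in `Cfsg.M24` of an involution without fixed points: order 7680, transitive on the
points, preserving a sextet.

Main results: `freeS`, `Cent`, `natCard_cent_stab`, `exists_move`, `natCard_cent`, `free_sextet`,
`exists_conj_free`.
-/
import Cfsg.Agent.Lib.GolayClasses.Enum
import Cfsg.Agent.Lib.GolayClasses.FreeData
import Cfsg.Agent.Lib.GolayOrbitLists.Objects
import Cfsg.Agent.Lib.GolayInvol.Basic

set_option autoImplicit false
set_option maxRecDepth 100000
open scoped Pointwise
open Cfsg MulAction Cfsg.Agent.Golay Cfsg.Agent.GolayOrbitLists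

namespace Cfsg.Agent.GolayClasses

/-- The involution. -/
noncomputable def freeS : Equiv.Perm GolayPt := toPerm freeInv

/-- Its centraliser in M24. -/
noncomputable def Cent : Subgroup (Equiv.Perm GolayPt) := M24 ⊓ Subgroup.centralizer {freeS}

theorem mem_Cent {g : Equiv.Perm GolayPt} :
    g ∈ Cent ↔ g ∈ M24 ∧ g * freeS = freeS * g := by
  rw [Cent, Subgroup.mem_inf, Subgroup.mem_centralizer_singleton_iff]

/-- A coded element commutes with the involution. -/
def commutes (d : ℕ) : Bool := same freeInv (fun i => fn freeInv i) &&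
  (List.range 24).all fun i => fn d (fn freeInv i) == fn freeInv (fn d i)

theorem free_facts : (isAut freeInv && isAut freeConj && fn freeInv 23 == 0 &&
    same freeConj (fun i => fn freeConj i) &&
    (List.range 24).all fun i => fn freeConj (fn GolayInvol.invRepFree i) ==
      fn freeInv (fn freeConj i)) = true := by
  decide +kernel

theorem validPerm_freeInv : validPerm freeInv = true := by
  have h := free_facts
  simp only [Bool.and_eq_true] at h
  exact validPerm_of_isAut h.1.1.1.1

theorem freeS_mem : freeS ∈ M24 := by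
  have h := free_facts
  simp only [Bool.and_eq_true] at h
  exact toPerm_mem_M24 h.1.1.1.1

theorem commute_of_commutes {d : ℕ} (hd : isAut d = true) (h : commutes d = true) :
    toPerm d ∈ Cent := by
  simp only [commutes, Bool.and_eq_true, List.all_eq_true, List.mem_range, beq_iff_eq] at h
  refine mem_Cent.mpr ⟨toPerm_mem_M24 hd, Equiv.ext fun p => idx_injective ?_⟩
  rw [Equiv.Perm.mul_apply, Equiv.Perm.mul_apply, freeS, idx_toPerm (validPerm_of_isAut hd),
    idx_toPerm validPerm_freeInv, idx_toPerm validPerm_freeInv,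
    idx_toPerm (validPerm_of_isAut hd)]
  exact h.2 _ (idx_lt p)

/-- `freeS` is a conjugate of the representative. -/
theorem exists_conj_free :
    ∃ k ∈ M24, k * GolayInvol.repFree * k⁻¹ = freeS := by
  have h := free_facts
  simp only [Bool.and_eq_true, List.all_eq_true, List.mem_range, beq_iff_eq] at h
  have hk := validPerm_of_isAut h.1.1.1.2
  refine ⟨toPerm freeConj, toPerm_mem_M24 h.1.1.1.2, mul_inv_eq_iff_eq_mul.mpr ?_⟩
  refine Equiv.ext fun p => idx_injective ?_
  rw [Equiv.Perm.mul_apply, Equiv.Perm.mul_apply, freeS, GolayInvol.repFree, idx_toPerm hk,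
    idx_toPerm (validPerm_of_isAut (Bool.and_eq_true_iff.1 GolayInvol.rep_aut).2),
    idx_toPerm validPerm_freeInv, idx_toPerm hk]
  exact h.2 _ (idx_lt p)

/-- The check on the listed stabiliser. -/
def stabCheck : Bool :=
  freeStab.all (fun d => isAut d && commutes d && fn d 23 == 23) &&
    allNew (freeStab.map frameKey) .nil &&
    freeHeads.all isAut &&
    ((List.range 24).all fun y => y == 23 || y == 0 ||
      freeHeads.any fun t => fn t 23 == 23 && fn t 0 == 0 && fn t 1 == y &&
        fn t 2 == fn freeInv y) &&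
    (fn freeInv 1 == 2) &&
    (cands freeHeads 3).all fun ds =>
      ((List.range 24).any fun i => app ds (fn freeInv i) != fn freeInv (app ds i)) ||
        freeStab.any fun d => same d (app ds)

theorem stabCheck_eq : stabCheck = true := by decide +kernel

theorem natCard_cent_stab :
    Nat.card {g // g ∈ Cent ∧ g (bpt 0) = bpt 0} = 320 ∧
      ∀ g ∈ Cent, g (bpt 0) = bpt 0 → ∃ d ∈ freeStab, toPerm d = g := by
  have h := stabCheck_eq
  simp only [stabCheck, Bool.and_eq_true] at h
  obtain ⟨⟨⟨⟨⟨hE, hkey⟩, hHaut⟩, hcov⟩, h12⟩, hc⟩ := h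
  rw [beq_iff_eq] at h12
  have hi0 : idx (bpt 0) = 23 := by decide +kernel
  have hex : ∀ g ∈ Cent, g (bpt 0) = bpt 0 → ∃ d ∈ freeStab, toPerm d = g := by
    intro g hg hg0
    obtain ⟨hgM, hgc⟩ := mem_Cent.mp hg
    have hcomm : ∀ p, g (freeS p) = freeS (g p) := fun p => Equiv.Perm.ext_iff.mp hgc p
    have hi1 : idx (bpt 1) = 0 := by decide +kernel
    have hi2 : idx (bpt 2) = 1 := by decide +kernel
    have hi3 : idx (bpt 3) = 2 := by decide +kernel
    have hs01 : freeS (bpt 0) = bpt 1 := idx_injective (by
      have h := free_facts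
      simp only [Bool.and_eq_true, beq_iff_eq] at h
      rw [freeS, idx_toPerm validPerm_freeInv, hi0, hi1]
      exact h.1.1.2)
    have hs23 : freeS (bpt 2) = bpt 3 := idx_injective (by
      rw [freeS, idx_toPerm validPerm_freeInv, hi2, hi3]
      exact h12)
    have hg1 : g (bpt 1) = bpt 1 := by rw [← hs01, hcomm, hg0]
    have hne : ∀ j < 2, idx (g (bpt 2)) ≠ idx (bpt j) := by
      intro j hj e
      have e' := idx_injective e
      interval_cases j
      · exact (by decide +kernel : bpt 2 ≠ bpt 0) (g.injective (e'.trans hg0.symm))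
      · exact (by decide +kernel : bpt 2 ≠ bpt 1) (g.injective (e'.trans hg1.symm))
    have hy := List.all_eq_true.mp hcov (idx (g (bpt 2))) (List.mem_range.mpr (idx_lt _))
    rw [Bool.or_eq_true, Bool.or_eq_true, beq_iff_eq, beq_iff_eq, List.any_eq_true] at hy
    rcases hy with (hy | hy) | ⟨t, ht, hy⟩
    · exact absurd (hy.trans hi0.symm) (hne 0 (by norm_num))
    · exact absurd (hy.trans hi1.symm) (hne 1 (by norm_num))
    simp only [Bool.and_eq_true, beq_iff_eq] at hy
    obtain ⟨ds, hds, hval⟩ := exists_cand (k := 4) ht (List.all_eq_true.mp hHaut t ht)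
      (by norm_num) hgM fun i hi => by
        rw [← idx_bpt i (by omega)]
        interval_cases i
        · rw [hg0, hi0, hy.1.1.1]
        · rw [hg1, hi1, hy.1.1.2]
        · rw [hi2, hy.1.2]
        · rw [hi3, hy.2, ← hs23, hcomm, freeS, idx_toPerm validPerm_freeInv]
    have hok := List.all_eq_true.mp hc ds hds
    rw [Bool.or_eq_true] at hok
    have hno : ((List.range 24).any fun i =>
        app ds (fn freeInv i) != fn freeInv (app ds i)) = false := by
      rw [List.any_eq_false]
      intro i hi
      have e := congrArg idx (hcomm (pt i))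
      rw [hval, freeS, idx_toPerm validPerm_freeInv, idx_toPerm validPerm_freeInv, hval,
        idx_pt (List.mem_range.mp hi)] at e
      simp [e]
    rw [hno] at hok
    simp only [Bool.false_eq_true, false_or, List.any_eq_true] at hok
    obtain ⟨d, hd, hd'⟩ := hok
    have hda := List.all_eq_true.mp hE d hd
    simp only [Bool.and_eq_true] at hda
    exact ⟨d, hd, toPerm_eq_of_same (validPerm_of_isAut hda.1.1) hd' hval⟩
  refine ⟨?_, hex⟩
  rw [natCard_of_enum freeStab (List.all_eq_true.mpr fun d hd => ?_) hkey (fun d hd => ?_)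
    fun g hg => hex g hg.1 hg.2]
  · decide +kernel
  · have hda := List.all_eq_true.mp hE d hd
    simp only [Bool.and_eq_true] at hda
    exact hda.1.1
  · have hda := List.all_eq_true.mp hE d hd
    simp only [Bool.and_eq_true, beq_iff_eq] at hda
    refine ⟨commute_of_commutes hda.1.1 hda.1.2, idx_injective ?_⟩
    rw [idx_toPerm (validPerm_of_isAut hda.1.1), hi0, hda.2]

theorem move_check : ((List.range 24).all fun p =>
    freeMoves.any fun d => fn d 23 == p) = true ∧
    (freeMoves.all fun d => isAut d && commutes d) = true ∧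
    fixesObj freeSextet freeMoves = true ∧ fixesObj freeSextet freeStab = true ∧
    fixesObj freeSextet [freeInv] = true ∧ isSextetList freeSextet = true := by
  decide +kernel

/-- The centraliser moves the first base point to every point. -/
theorem exists_move (p : GolayPt) : ∃ d ∈ freeMoves, toPerm d ∈ Cent ∧ toPerm d (bpt 0) = p := by
  obtain ⟨h1, h2, -⟩ := move_check
  obtain ⟨d, hd, hdp⟩ := List.any_eq_true.mp
    (List.all_eq_true.mp h1 (idx p) (List.mem_range.mpr (idx_lt p)))
  have hda := List.all_eq_true.mp h2 d hd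
  simp only [Bool.and_eq_true] at hda
  refine ⟨d, hd, commute_of_commutes hda.1 hda.2, idx_injective ?_⟩
  rw [idx_toPerm (validPerm_of_isAut hda.1), show idx (bpt 0) = 23 by decide +kernel]
  exact beq_iff_eq.mp hdp

theorem natCard_cent : Nat.card Cent = 7680 := by
  rw [natCard_step Cent (bpt 0) Finset.univ (fun g _ => Finset.mem_univ _) fun y _ => by
    obtain ⟨d, -, hd, hdy⟩ := exists_move y
    exact ⟨toPerm d, hd, hdy⟩]
  rw [Finset.card_univ, show Fintype.card GolayPt = 24 from rfl]
  have e : ↥(Cent ⊓ stabilizer (Equiv.Perm GolayPt) (bpt 0)) ≃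
      {g // g ∈ Cent ∧ g (bpt 0) = bpt 0} :=
    Equiv.subtypeEquivRight fun g => Iff.rfl
  rw [Nat.card_congr e, natCard_cent_stab.1]

theorem free_sextet : obj freeSextet ∈ sextets ∧ freeS • obj freeSextet = obj freeSextet ∧
    ∀ c ∈ Cent, c • obj freeSextet = obj freeSextet := by
  obtain ⟨-, -, hW, hE, hS, hl⟩ := move_check
  have hfix : ∀ {L : List ℕ}, fixesObj freeSextet L = true → ∀ d ∈ L,
      toPerm d • obj freeSextet = obj freeSextet := fun {L} h d hd => by
    obtain ⟨_ha, hm⟩ := mem_stab_of_fixesObj h d hd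
    exact mem_stabilizer_iff.mp hm
  refine ⟨obj_mem_sextets hl, hfix hS _ (by simp), fun c hc => ?_⟩
  obtain ⟨d, hd, hdC, hdp⟩ := exists_move (c (bpt 0))
  obtain ⟨e, he, hec⟩ := natCard_cent_stab.2 ((toPerm d)⁻¹ * c) (mul_mem (inv_mem hdC) hc) (by
    rw [Equiv.Perm.mul_apply, ← hdp, Equiv.Perm.coe_inv, Equiv.symm_apply_apply])
  have h2 := hfix hE e he
  rw [hec, mul_smul, inv_smul_eq_iff, hfix hW d hd] at h2
  exact h2

end Cfsg.Agent.GolayClasses
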