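/-
Numbers of octads, dodecads, sextets and trios fixed by a coded permutation and by its conjugates.

Main results: `exhaust`, `fixCount`, `ncard_fixed_trios`, `ncard_fixed_sextets`, `ncard_fixed_words`,
`ncard_fixed_conj`.
-/
import Cfsg.Agent.Lib.GolayOrbitLists.OctTrio
import Cfsg.Agent.Lib.GolayOrbitLists.OctSext
import Cfsg.Agent.Lib.GolayOrbits.Basic

set_option autoImplicit false
open scoped Pointwise
open Cfsg MulAction Cfsg.Agent.Golay Cfsg.Agent.GolayOrbitLists

namespace Cfsg.Agent.GolayClasses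

/-- A certified splitting lists the whole set. -/
theorem exhaust {A0 gens : List ℕ} {D : List (List ℕ × List (List (List ℕ)))} {Ω : Set Obj}
    (hC : Certified A0 gens D Ω) (hΩ : ∀ h : ↥M24, ∀ X ∈ Ω, h • X ∈ Ω) :
    ((D.flatMap (orbitList gens)).map obj).Nodup ∧
      (∀ y ∈ D.flatMap (orbitList gens), ∀ m ∈ y, m < 2 ^ 24) ∧
      (((D.flatMap (orbitList gens)).map obj).toFinset : Set Obj) = Ω := by
  classical
  obtain ⟨hf, hc, -, hr, hn⟩ := hC
  simp only [check, Bool.and_eq_true, List.all_eq_true, Nat.blt_eq] at hc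
  obtain ⟨hb, hnew⟩ := hc
  have hgens : ∀ d ∈ gens, ∃ h : isAut d = true,
      (⟨toPerm d, toPerm_mem_M24 h⟩ : ↥M24) ∈ stabilizer M24 (obj A0) := mem_stab_of_fixesObj hf
  have hreach : ∀ y ∈ D.flatMap (orbitList gens), (∀ m ∈ y, m < 2 ^ 24) ∧ obj y ∈ Ω := by
    intro y hy
    obtain ⟨e, he, hy⟩ := List.mem_flatMap.mp hy
    have h := reached_layers hgens (X := obj e.1) e.2 [e.1] (fun x hx => by
      rw [List.mem_singleton.mp hx]
      exact ⟨mem_orbit_self _, fun m hm => hb e he m hm⟩) y hy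
    obtain ⟨g, hg⟩ := h.1
    exact ⟨h.2, hg ▸ hΩ g _ (hr e he)⟩
  have hnd : ((D.flatMap (orbitList gens)).map obj).Nodup := by
    refine List.Nodup.of_map keyObj ?_
    rw [List.map_map, List.map_congr_left (g := keyList) fun y hy => ?_]
    · exact (allNew_spec _ _ hnew).1
    · exact keyObj_obj (hreach y hy).1
  refine ⟨hnd, fun y hy => (hreach y hy).1, Set.eq_of_subset_of_ncard_le (fun X hX => ?_) ?_
    (Set.toFinite _)⟩
  · rw [List.coe_toFinset] at hX
    obtain ⟨y, hy, rfl⟩ := List.mem_map.mp hX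
    exact (hreach y hy).2
  · rw [Set.ncard_coe_finset, List.toFinset_card_of_nodup hnd, List.length_map, hn]

/-- The number of listed families preserved by `d`. -/
def fixCount (d : ℕ) (L : List (List ℕ)) : ℕ :=
  L.countP fun y => y.all fun m => y.contains (imgMask d m)

theorem smul_obj_eq_iff {d : ℕ} (hd : validPerm d = true) {y : List ℕ}
    (hy : ∀ m ∈ y, m < 2 ^ 24) :
    toPerm d • obj y = obj y ↔ (y.all fun m => y.contains (imgMask d m)) = true := by
  simp only [List.all_eq_true, List.contains_iff_mem]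
  constructor
  · intro h m hm
    have h1 : pts (imgMask d m) ∈ obj y := by
      rw [← h, pts_imgMask hd]
      exact Finset.smul_mem_smul_finset (mem_obj.mpr ⟨m, hm, rfl⟩)
    obtain ⟨m', hm', he⟩ := mem_obj.mp h1
    rwa [pts_injOn (hy m' hm') (imgMask_lt hd m) he] at hm'
  · intro h
    refine Finset.eq_of_subset_of_card_le (fun s hs => ?_) (by rw [Finset.card_smul_finset])
    rw [← obj_map_imgMask hd] at hs
    obtain ⟨m', hm', rfl⟩ := mem_obj.mp hs
    obtain ⟨m, hm, rfl⟩ := List.mem_map.mp hm'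
    exact mem_obj.mpr ⟨_, h m hm, rfl⟩

theorem ncard_fixed_of_certified {A0 gens : List ℕ} {D : List (List ℕ × List (List (List ℕ)))}
    {Ω : Set Obj} (hC : Certified A0 gens D Ω) (hΩ : ∀ h : ↥M24, ∀ X ∈ Ω, h • X ∈ Ω) {d : ℕ}
    (hd : validPerm d = true) :
    {X | X ∈ Ω ∧ toPerm d • X = X}.ncard = fixCount d (D.flatMap (orbitList gens)) := by
  classical
  obtain ⟨hnd, hlt, hset⟩ := exhaust hC hΩ
  generalize D.flatMap (orbitList gens) = L at hnd hlt hset ⊢
  rw [fixCount, List.countP_eq_length_filter]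
  have e : {X | X ∈ Ω ∧ toPerm d • X = X} =
      ↑((L.filter fun y => y.all fun m => y.contains (imgMask d m)).map obj).toFinset := by
    ext X
    rw [← hset]
    simp only [List.coe_toFinset, Set.mem_setOf_eq, List.mem_map, List.mem_filter]
    constructor
    · rintro ⟨⟨y, hy, rfl⟩, h⟩
      exact ⟨y, ⟨hy, (smul_obj_eq_iff hd (hlt y hy)).mp h⟩, rfl⟩
    · rintro ⟨y, ⟨hy, h⟩, rfl⟩
      exact ⟨⟨y, hy, rfl⟩, (smul_obj_eq_iff hd (hlt y hy)).mpr h⟩
  rw [e, Set.ncard_coe_finset, List.toFinset_card_of_nodup (List.Nodup.sublist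
    ((List.filter_sublist).map obj) hnd), List.length_map]

theorem ncard_fixed_trios {d : ℕ} (hd : validPerm d = true) :
    {T | T ∈ trios ∧ toPerm d • T = T}.ncard =
      fixCount d (octTrioData.flatMap (orbitList octTrioGens)) :=
  ncard_fixed_of_certified octTrio_certified smul_mem_trios' hd

theorem ncard_fixed_sextets {d : ℕ} (hd : validPerm d = true) :
    {S | S ∈ sextets ∧ toPerm d • S = S}.ncard =
      fixCount d (octSextData.flatMap (orbitList octSextGens)) :=
  ncard_fixed_of_certified octSext_certified smul_mem_sextets' hd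

theorem ncard_fixed_words {d : ℕ} (hd : validPerm d = true) (n : ℕ) :
    {s | s ∈ wordsOfWeight (golayCode : Set (GolayPt → ZMod 2)) n ∧ toPerm d • s = s}.ncard =
      countSpan (fun m => popcount m == n && imgMask d m == m) rows 0 := by
  refine GolayOrbits.ncard_eq_countSpan (fun s hs => hs.1.1) fun m hm => ?_
  rw [Bool.and_eq_true, beq_iff_eq, beq_iff_eq]
  refine and_congr ⟨fun h => by rw [← card_pts]; exact h.2,
    fun h => ⟨(pts_mem_supports_iff (lt_of_isCode hm)).mpr hm, by rw [card_pts]; exact h⟩⟩ ?_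
  rw [← pts_imgMask hd]
  exact ⟨pts_injOn (imgMask_lt hd m) (lt_of_isCode hm), fun h => by rw [h]⟩

/-- Fixed-object counts are the same for conjugates. -/
theorem ncard_fixed_conj {α : Type*} [MulAction (Equiv.Perm GolayPt) α] {Ω : Set α}
    {k : Equiv.Perm GolayPt} (hk : ∀ X, k • X ∈ Ω ↔ X ∈ Ω) (r : Equiv.Perm GolayPt) :
    {X | X ∈ Ω ∧ (k * r * k⁻¹) • X = X}.ncard = {X | X ∈ Ω ∧ r • X = X}.ncard := by
  rw [← Set.ncard_image_of_injective {X | X ∈ Ω ∧ r • X = X} (MulAction.injective k)]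
  congr 1
  ext X
  constructor
  · rintro ⟨hX, h⟩
    refine ⟨k⁻¹ • X, ⟨(hk _).mp (by rwa [smul_inv_smul]), ?_⟩, smul_inv_smul k X⟩
    rw [mul_smul, mul_smul] at h
    exact eq_inv_smul_iff.mpr h
  · rintro ⟨Y, ⟨hY, h⟩, rfl⟩
    exact ⟨(hk Y).mpr hY, by rw [mul_smul, mul_smul, inv_smul_smul, h]⟩

theorem smul_mem_iff {α : Type*} [MulAction (Equiv.Perm GolayPt) α] {Ω : Set α}
    (h : ∀ g ∈ M24, ∀ X ∈ Ω, g • X ∈ Ω) {k : Equiv.Perm GolayPt} (hk : k ∈ M24) (X : α) :
    k • X ∈ Ω ↔ X ∈ Ω :=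
  ⟨fun hX => by simpa using h k⁻¹ (inv_mem hk) _ hX, h k hk X⟩

end Cfsg.Agent.GolayClasses
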