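/-
Involutions of `Cfsg.M24` without fixed points are conjugates of `freeS`; their centralisers.

Main results: `exists_conj_of_free`, `centConj`, `natCard_cent_free`.
-/
import Cfsg.Agent.Lib.GolayClasses.Free

set_option autoImplicit false
open scoped Pointwise
open Cfsg MulAction Cfsg.Agent.Golay

namespace Cfsg.Agent.GolayClasses

theorem exists_conj_of_free {t : Equiv.Perm GolayPt} (ht : t ∈ M24) (h2 : orderOf t = 2)
    (h0 : ∀ p, t p ≠ p) : ∃ u ∈ M24, u * freeS * u⁻¹ = t := by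
  obtain ⟨k, hk, hks⟩ := exists_conj_free
  obtain ⟨l, hl, h | h⟩ := GolayInvol.involution_cases ht h2
  · exfalso
    have h8 := GolayInvol.fixSet_repFix.2
    obtain ⟨p, hp⟩ := Finset.card_pos.mp (h8.symm ▸ (by norm_num : 0 < 8))
    refine h0 (l p) ?_
    rw [← h]
    simp [(Finset.mem_filter.mp hp).2]
  · refine ⟨l * k⁻¹, mul_mem hl (inv_mem hk), ?_⟩
    rw [← h, ← hks]
    group

theorem mem_cent_conj {u : Equiv.Perm GolayPt} (hu : u ∈ M24) {c : Equiv.Perm GolayPt} :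
    (c ∈ M24 ∧ c * (u * freeS * u⁻¹) = u * freeS * u⁻¹ * c) ↔ u⁻¹ * c * u ∈ Cent := by
  rw [mem_Cent]
  constructor
  · rintro ⟨hc, h⟩
    refine ⟨mul_mem (mul_mem (inv_mem hu) hc) hu, ?_⟩
    calc u⁻¹ * c * u * freeS = u⁻¹ * (c * (u * freeS * u⁻¹)) * u := by group
      _ = u⁻¹ * (u * freeS * u⁻¹ * c) * u := by rw [h]
      _ = freeS * (u⁻¹ * c * u) := by group
  · rintro ⟨hc, h⟩
    refine ⟨?_, ?_⟩
    · have e := mul_mem (mul_mem hu hc) (inv_mem hu)
      simpa [mul_assoc] using e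
    · calc c * (u * freeS * u⁻¹) = u * (u⁻¹ * c * u * freeS) * u⁻¹ := by group
        _ = u * (freeS * (u⁻¹ * c * u)) * u⁻¹ := by rw [h]
        _ = u * freeS * u⁻¹ * c := by group

theorem natCard_cent_free {u : Equiv.Perm GolayPt} (hu : u ∈ M24) :
    Nat.card {c : Equiv.Perm GolayPt //
      c ∈ M24 ∧ c * (u * freeS * u⁻¹) = u * freeS * u⁻¹ * c} = 7680 := by
  rw [← natCard_cent]
  exact Nat.card_congr
    { toFun := fun c => ⟨u⁻¹ * c.1 * u, (mem_cent_conj hu).mp c.2⟩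
      invFun := fun d => ⟨u * d.1 * u⁻¹, (mem_cent_conj hu).mpr (by simpa [mul_assoc] using d.2)⟩
      left_inv := fun c => Subtype.ext (by simp [mul_assoc])
      right_inv := fun d => Subtype.ext (by simp [mul_assoc]) }

end Cfsg.Agent.GolayClasses
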