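/-
The normaliser and centraliser in `Cfsg.M24` of an element of order seven.

Main results: `sevenZ`, `natCard_seven_norm`, `natCard_seven_cent`, `seven_trio`.
-/
import Cfsg.Agent.Lib.GolayClasses.Enum
import Cfsg.Agent.Lib.GolayClasses.SevenData
import Cfsg.Agent.Lib.GolayOrbitLists.Objects

set_option autoImplicit false
set_option maxRecDepth 100000
open scoped Pointwise
open Cfsg MulAction Cfsg.Agent.Golay Cfsg.Agent.GolayOrbitLists

namespace Cfsg.Agent.GolayClasses

/-- The element of order seven. -/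
noncomputable def sevenZ : Equiv.Perm GolayPt := toPerm sevenGen

/-- The iterates of the coded element. -/
def zIter : ℕ → ℕ → ℕ
  | 0, i => i
  | j + 1, i => fn sevenGen (zIter j i)

/-- `g` conjugates the element to its `j`th power. -/
def Twists (j : ℕ) (g : Equiv.Perm GolayPt) : Prop := g ∈ M24 ∧ g * sevenZ = sevenZ ^ j * g

/-- A coded element conjugates the element to its `j`th power. -/
def twists (j d : ℕ) : Bool :=
  (List.range 24).all fun i => fn d (fn sevenGen i) == zIter j (fn d i)

/-- The checks. -/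
def sevenCheck : Bool :=
  isAut sevenGen && ((List.range 24).all fun i => zIter 7 i == i) &&
    sevenNorm.all (fun d => isAut d && (List.range 6).any fun j => twists (j + 1) d) &&
    allNew (sevenNorm.map frameKey) .nil &&
    sevenCent.all (fun d => isAut d && twists 1 d && sevenNorm.contains d) &&
    allNew (sevenCent.map frameKey) .nil &&
    ((List.range 4).all fun i => fn sevenGen (baseIdx.getD i 0) == baseIdx.getD (i + 1) 0) &&
    sevenHeads.all isAut &&
    ((List.range 6).all fun j => (List.range 24).all fun y => fn sevenGen y == y ||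
      sevenHeads.any fun t => (List.range 5).all fun i =>
        fn t (baseIdx.getD i 0) == zIter ((j + 1) * i) y) &&
    (cands sevenHeads 2).all fun ds => (List.range 6).all fun j =>
      ((List.range 24).any fun i => app ds (fn sevenGen i) != zIter (j + 1) (app ds i)) ||
        (if j = 0 then sevenCent else sevenNorm).any fun d => same d (app ds)

theorem sevenCheck_eq : sevenCheck = true := by decide +kernel

theorem seven_trio : fixesObj sevenTrio sevenNorm = true ∧ isTrioList sevenTrio = true ∧
    sevenNorm.length = 126 ∧ sevenCent.length = 42 := by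
  decide +kernel

theorem valid_sevenGen : validPerm sevenGen = true := by
  have h := sevenCheck_eq
  simp only [sevenCheck, Bool.and_eq_true] at h
  exact validPerm_of_isAut h.1.1.1.1.1.1.1.1.1

theorem sevenZ_mem : sevenZ ∈ M24 := by
  have h := sevenCheck_eq
  simp only [sevenCheck, Bool.and_eq_true] at h
  exact toPerm_mem_M24 h.1.1.1.1.1.1.1.1.1

theorem idx_zpow (j : ℕ) (p : GolayPt) : idx ((sevenZ ^ j) p) = zIter j (idx p) := by
  induction j with
  | zero => rfl
  | succ j ih => rw [pow_succ', Equiv.Perm.mul_apply, sevenZ, idx_toPerm valid_sevenGen, ← sevenZ, ih]; rfl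

theorem orderOf_sevenZ : orderOf sevenZ = 7 := by
  have : Fact (Nat.Prime 7) := ⟨by norm_num⟩
  have h := sevenCheck_eq
  simp only [sevenCheck, Bool.and_eq_true, List.all_eq_true, List.mem_range, beq_iff_eq] at h
  refine orderOf_eq_prime (Equiv.ext fun p => idx_injective ?_) fun e => ?_
  · rw [idx_zpow, h.1.1.1.1.1.1.1.1.2 _ (idx_lt p)]; rfl
  · have e' := congrArg idx (Equiv.Perm.ext_iff.mp e (pt 0))
    rw [sevenZ, idx_toPerm valid_sevenGen] at e'
    exact absurd e' (by decide +kernel)

theorem twists_sound {j d : ℕ} (hd : isAut d = true) (h : twists j d = true) :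
    Twists j (toPerm d) := by
  simp only [twists, List.all_eq_true, List.mem_range, beq_iff_eq] at h
  refine ⟨toPerm_mem_M24 hd, Equiv.ext fun p => idx_injective ?_⟩
  rw [Equiv.Perm.mul_apply, Equiv.Perm.mul_apply, idx_zpow, sevenZ,
    idx_toPerm (validPerm_of_isAut hd), idx_toPerm valid_sevenGen,
    idx_toPerm (validPerm_of_isAut hd)]
  exact h _ (idx_lt p)

theorem exists_listed {j : ℕ} (hj0 : 1 ≤ j) (hj : j < 7) {g : Equiv.Perm GolayPt}
    (hg : Twists j g) : ∃ d ∈ (if j = 1 then sevenCent else sevenNorm), toPerm d = g := by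
  have h := sevenCheck_eq
  simp only [sevenCheck, Bool.and_eq_true] at h
  obtain ⟨⟨⟨⟨⟨⟨⟨⟨⟨-, -⟩, hN⟩, -⟩, hC⟩, -⟩, hbase⟩, hH⟩, hcov⟩, hc⟩ := h
  obtain ⟨hgM, hgz⟩ := hg
  have hcomm : ∀ p, idx (g (sevenZ p)) = zIter j (idx (g p)) := fun p => by
    rw [← idx_zpow]
    exact congrArg idx (Equiv.Perm.ext_iff.mp hgz p)
  have hadd : ∀ (a b i : ℕ), zIter (a + b) i = zIter a (zIter b i) := fun a b i => by
    induction a with
    | zero => rw [Nat.zero_add]; rfl
    | succ a ih => rw [Nat.succ_add]; exact congrArg (fn sevenGen) ih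
  set y := idx (g (bpt 0)) with hydef
  have hbp : ∀ i < 5, idx (g (bpt i)) = zIter (j * i) y := by
    intro i
    induction i with
    | zero => intro _; rw [Nat.mul_zero]; rfl
    | succ i ih =>
      intro hi
      have hz : sevenZ (bpt i) = bpt (i + 1) := idx_injective (by
        rw [sevenZ, idx_toPerm valid_sevenGen, idx_bpt i (by omega), idx_bpt (i + 1) (by omega)]
        exact beq_iff_eq.mp (List.all_eq_true.mp hbase i (List.mem_range.mpr (by omega))))
      rw [← hz, hcomm, ih (by omega), ← hadd]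
      congr 1
      ring
  have hy : y < 24 := idx_lt _
  have hmoved : fn sevenGen y ≠ y := fun e => by
    have hfix : zIter j y = y := by
      clear_value y
      induction j with
      | zero => rfl
      | succ j _ =>
        clear * - e
        induction j with
        | zero => exact e
        | succ j ih => show fn sevenGen (zIter (j + 1) y) = y; rw [ih]; exact e
    have h1 := hbp 1 (by norm_num)
    rw [Nat.mul_one, hfix] at h1
    exact (by decide +kernel : bpt 1 ≠ bpt 0) (g.injective (idx_injective h1))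
  have hc1 := List.all_eq_true.mp (List.all_eq_true.mp hcov (j - 1)
    (List.mem_range.mpr (by omega))) y (List.mem_range.mpr hy)
  rw [show j - 1 + 1 = j by omega, Bool.or_eq_true, beq_iff_eq] at hc1
  obtain ⟨t, ht, ht'⟩ := List.any_eq_true.mp (hc1.resolve_left hmoved)
  simp only [List.all_eq_true, List.mem_range, beq_iff_eq] at ht'
  obtain ⟨ds, hds, hval⟩ := exists_cand (k := 5) ht (List.all_eq_true.mp hH t ht) (by norm_num)
    hgM fun i hi => by rw [ht' i hi, hbp i hi]
  have hok := List.all_eq_true.mp (List.all_eq_true.mp hc ds hds) (j - 1)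
    (List.mem_range.mpr (by omega))
  rw [show j - 1 + 1 = j by omega, show (if j - 1 = 0 then sevenCent else sevenNorm) =
    (if j = 1 then sevenCent else sevenNorm) by
      rcases eq_or_ne j 1 with rfl | hne
      · rfl
      · rw [if_neg hne, if_neg (by omega)], Bool.or_eq_true] at hok
  have hno : ((List.range 24).any fun i =>
      app ds (fn sevenGen i) != zIter j (app ds i)) = false := by
    rw [List.any_eq_false]
    intro i hi
    have e := hcomm (pt i)
    rw [hval, hval, sevenZ, idx_toPerm valid_sevenGen, idx_pt (List.mem_range.mp hi)] at e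
    simp [e]
  rw [hno] at hok
  simp only [Bool.false_eq_true, false_or, List.any_eq_true] at hok
  obtain ⟨d, hd, hd'⟩ := hok
  refine ⟨d, hd, toPerm_eq_of_same (validPerm_of_isAut ?_) hd' hval⟩
  split_ifs at hd
  · exact (Bool.and_eq_true_iff.mp (Bool.and_eq_true_iff.mp (List.all_eq_true.mp hC d hd)).1).1
  · exact (Bool.and_eq_true_iff.mp (List.all_eq_true.mp hN d hd)).1

/-- `g` normalises the group generated by the element. -/
def InNorm (g : Equiv.Perm GolayPt) : Prop := ∃ j, 1 ≤ j ∧ j < 7 ∧ Twists j g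

theorem exists_norm {g : Equiv.Perm GolayPt} (hg : InNorm g) :
    ∃ d ∈ sevenNorm, toPerm d = g := by
  obtain ⟨j, h1, h7, hgj⟩ := hg
  obtain ⟨d, hd, e⟩ := exists_listed h1 h7 hgj
  split_ifs at hd with hj
  · have h := sevenCheck_eq
    simp only [sevenCheck, Bool.and_eq_true] at h
    have hm := (Bool.and_eq_true_iff.mp (List.all_eq_true.mp h.1.1.1.1.1.2 d hd)).2
    exact ⟨d, List.contains_iff_mem.mp hm, e⟩
  · exact ⟨d, hd, e⟩

theorem natCard_seven_norm : Nat.card {g // InNorm g} = 126 := by
  have h := sevenCheck_eq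
  simp only [sevenCheck, Bool.and_eq_true] at h
  obtain ⟨⟨⟨⟨⟨⟨⟨⟨⟨-, -⟩, hN⟩, hk⟩, -⟩, -⟩, -⟩, -⟩, -⟩, -⟩ := h
  rw [natCard_of_enum sevenNorm (List.all_eq_true.mpr fun d hd =>
    (Bool.and_eq_true_iff.mp (List.all_eq_true.mp hN d hd)).1) hk (fun d hd => ?_)
    fun g hg => exists_norm hg, seven_trio.2.2.1]
  obtain ⟨ha, hj⟩ := Bool.and_eq_true_iff.mp (List.all_eq_true.mp hN d hd)
  obtain ⟨j, hj6, hj⟩ := List.any_eq_true.mp hj
  exact ⟨j + 1, by omega, by have := List.mem_range.mp hj6; omega, twists_sound ha hj⟩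

theorem natCard_seven_cent : Nat.card {g // Twists 1 g} = 42 := by
  have h := sevenCheck_eq
  simp only [sevenCheck, Bool.and_eq_true] at h
  obtain ⟨⟨⟨⟨⟨⟨⟨⟨⟨-, -⟩, -⟩, -⟩, hC⟩, hk⟩, -⟩, -⟩, -⟩, -⟩ := h
  rw [natCard_of_enum sevenCent (List.all_eq_true.mpr fun d hd => ?_) hk (fun d hd => ?_)
    fun g hg => ?_, seven_trio.2.2.2]
  · exact (Bool.and_eq_true_iff.mp (Bool.and_eq_true_iff.mp (List.all_eq_true.mp hC d hd)).1).1
  · obtain ⟨ha, ht⟩ := Bool.and_eq_true_iff.mp
      (Bool.and_eq_true_iff.mp (List.all_eq_true.mp hC d hd)).1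
    exact twists_sound ha ht
  · obtain ⟨d, hd, e⟩ := exists_listed (le_refl 1) (by norm_num) hg
    rw [if_pos rfl] at hd
    exact ⟨d, hd, e⟩

end Cfsg.Agent.GolayClasses
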