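/-
The elements of order three of `Cfsg.M24`: every one is conjugate to one of two representatives,
fixing six points and none.

Main results: `repA`, `repB`, `three_cases`, `fixed_repA`, `fixed_repB`, `card_fixed_conj`.
-/
import Cfsg.Agent.Lib.GolayClasses.Enum
import Cfsg.Agent.Lib.GolayClasses.ThreeData
import Cfsg.Agent.Lib.Golay.Triads

set_option autoImplicit false
set_option maxRecDepth 100000
open scoped Pointwise
open Cfsg Cfsg.Agent.Golay

namespace Cfsg.Agent.GolayClasses

/-- The representative fixing six points. -/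
noncomputable def repA : Equiv.Perm GolayPt := toPerm threeRepA

/-- The representative without fixed points. -/
noncomputable def repB : Equiv.Perm GolayPt := toPerm threeRepB

/-- A candidate is not of order three or is conjugate to a representative. -/
def threeOK (ds : List ℕ) : Bool :=
  ((List.range 24).any fun i => app ds (app ds (app ds i)) != i) ||
    threeConj.any fun k =>
      ((List.range 24).all fun i => fn k (fn threeRepA i) == app ds (fn k i)) ||
        ((List.range 24).all fun i => fn k (fn threeRepB i) == app ds (fn k i))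

theorem three_check : ((cands threeHeads 3).all threeOK && threeHeads.all isAut &&
    threeConj.all isAut && isAut threeRepA && isAut threeRepB) = true := by
  decide +kernel

theorem three_heads :
    (List.range 4).map (fun i => fn (threeHeads.getD 0 0) (baseIdx.getD i 0)) = [0, 1, 23, 2] ∧
    (List.range 4).map (fun i => fn (threeHeads.getD 1 0) (baseIdx.getD i 0)) = [0, 1, 23, 3] ∧
    threeHeads.length = 2 := by
  decide +kernel

theorem repA_mem : repA ∈ M24 := by
  have h := three_check
  simp only [Bool.and_eq_true] at h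
  exact toPerm_mem_M24 h.1.2

theorem repB_mem : repB ∈ M24 := by
  have h := three_check
  simp only [Bool.and_eq_true] at h
  exact toPerm_mem_M24 h.2

/-- A candidate agreeing with a conjugate `h` of order three gives a representative. -/
theorem conj_rep {t : ℕ} (ht : t ∈ threeHeads) {h : Equiv.Perm GolayPt} (hh : h ∈ M24)
    (h3 : ∀ p, h (h (h p)) = p)
    (hag : ∀ i < 4, idx (h (bpt i)) = fn t (baseIdx.getD i 0)) :
    ∃ k ∈ M24, k * repA * k⁻¹ = h ∨ k * repB * k⁻¹ = h := by
  have hc := three_check
  simp only [Bool.and_eq_true] at hc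
  obtain ⟨⟨⟨⟨hc1, hc2⟩, hc3⟩, hA⟩, hB⟩ := hc
  obtain ⟨ds, hds, hval⟩ :=
    exists_cand (k := 4) ht (List.all_eq_true.mp hc2 t ht) (by norm_num) hh hag
  have hok := List.all_eq_true.mp hc1 ds hds
  rw [threeOK, Bool.or_eq_true] at hok
  have hno : ((List.range 24).any fun i => app ds (app ds (app ds i)) != i) = false := by
    rw [List.any_eq_false]
    intro i hi
    have e := congrArg idx (h3 (pt i))
    rw [hval, hval, hval, idx_pt (List.mem_range.mp hi)] at e
    simp [e]
  rw [hno] at hok
  simp only [Bool.false_eq_true, false_or, List.any_eq_true, Bool.or_eq_true, List.all_eq_true,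
    List.mem_range, beq_iff_eq] at hok
  obtain ⟨k, hk, hk'⟩ := hok
  have hkA := List.all_eq_true.mp hc3 k hk
  have hkv := validPerm_of_isAut hkA
  have key : ∀ r, isAut r = true → (∀ i < 24, fn k (fn r i) = app ds (fn k i)) →
      toPerm k * toPerm r * (toPerm k)⁻¹ = h := by
    intro r hr hcomm
    have e : toPerm k * toPerm r = h * toPerm k := by
      refine Equiv.ext fun p => idx_injective ?_
      rw [Equiv.Perm.mul_apply, Equiv.Perm.mul_apply, idx_toPerm hkv,
        idx_toPerm (validPerm_of_isAut hr), hval, idx_toPerm hkv]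
      exact hcomm _ (idx_lt p)
    rw [e]
    group
  refine ⟨toPerm k, toPerm_mem_M24 hkA, ?_⟩
  rcases hk' with hk' | hk'
  · exact Or.inl (key _ hA hk')
  · exact Or.inr (key _ hB hk')

/-- Every element of order three is conjugate to one of the representatives. -/
theorem three_cases {g : Equiv.Perm GolayPt} (hg : g ∈ M24) (hg3 : orderOf g = 3) :
    ∃ k ∈ M24, k * repA * k⁻¹ = g ∨ k * repB * k⁻¹ = g := by
  have hp : g ^ 3 = 1 := by rw [← hg3, pow_orderOf_eq_one]
  have hggg : ∀ p, g (g (g p)) = p := fun p => by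
    simpa [pow_succ] using Equiv.Perm.ext_iff.mp hp p
  obtain ⟨a, ha⟩ : ∃ a, g a ≠ a := by
    by_contra! h
    rw [show g = 1 from Equiv.ext h, orderOf_one] at hg3
    omega
  have hab : a ≠ g a := Ne.symm ha
  have hbc : g a ≠ g (g a) := fun h => hab (g.injective h)
  have hac : a ≠ g (g a) := fun h => ha ((congrArg g h).trans (hggg a))
  obtain ⟨e, he⟩ : ∃ e, e ∉ ({a, g a, g (g a)} : Finset GolayPt) := by
    by_contra! h
    have h24 := Finset.card_le_card (s := Finset.univ) (t := ({a, g a, g (g a)} : Finset GolayPt))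
      fun x _ => h x
    exact absurd (h24.trans Finset.card_le_three) (by decide)
  simp only [Finset.mem_insert, Finset.mem_singleton, not_or] at he
  obtain ⟨ea, eb, ec⟩ := he
  have fa : g e ≠ a := fun h => ec (g.injective (h.trans (hggg a).symm))
  have fb : g e ≠ g a := fun h => ea (g.injective h)
  have fc : g e ≠ g (g a) := fun h => eb (g.injective h)
  suffices hs : ∃ t ∈ M24, ∃ k ∈ M24,
      k * repA * k⁻¹ = t⁻¹ * g * t ∨ k * repB * k⁻¹ = t⁻¹ * g * t by
    obtain ⟨t, ht, k, hk, hk'⟩ := hs
    refine ⟨t * k, mul_mem ht hk, hk'.imp (fun h => ?_) (fun h => ?_)⟩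
    · calc t * k * repA * (t * k)⁻¹ = t * (k * repA * k⁻¹) * t⁻¹ := by group
        _ = g := by rw [h]; group
    · calc t * k * repB * (t * k)⁻¹ = t * (k * repB * k⁻¹) * t⁻¹ := by group
        _ = g := by rw [h]; group
  have hconj : ∀ t : Equiv.Perm GolayPt, ∀ p, (t⁻¹ * g * t) ((t⁻¹ * g * t) ((t⁻¹ * g * t) p)) = p :=
    fun t p => by simp [hggg]
  have hh : ∀ (t : Equiv.Perm GolayPt) (p q : GolayPt), g (t p) = t q →
      (t⁻¹ * g * t) p = q := fun t p q hpq => by simp [hpq]
  have hb : ∀ i < 7, idx (bpt i) = baseIdx.getD i 0 := idx_bpt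
  have h2 := three_heads
  have hH : ∀ j < 2, threeHeads.getD j 0 ∈ threeHeads := fun j hj => by
    rw [List.getD_eq_getElem _ _ (h2.2.2.symm ▸ hj)]
    exact List.getElem_mem _
  by_cases hfe : g e = e
  · obtain ⟨t, ht, htl⟩ := exists_map_list (l := [bpt 0, bpt 1, bpt 2, bpt 3])
      (l' := [a, g a, g (g a), e]) (by decide +kernel)
      (by simp [hab, hac, hbc, Ne.symm ea, Ne.symm eb, Ne.symm ec]) rfl (by decide)
    simp only [List.map_cons, List.map_nil, List.cons.injEq, and_true] at htl
    obtain ⟨t0, t1, t2, t3⟩ := htl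
    refine ⟨t, ht, conj_rep (hH 0 (by norm_num)) (mul_mem (mul_mem (inv_mem ht) hg) ht)
      (hconj t) fun i hi => ?_⟩
    have e0 := h2.1
    simp only [List.range_succ, List.range_zero, List.map_append, List.map_cons, List.map_nil,
      List.nil_append, List.cons_append, List.cons.injEq, and_true] at e0
    obtain ⟨v0, v1, v2, v3⟩ := e0
    interval_cases i
    · rw [hh t (bpt 0) (bpt 1) (by rw [t0, t1]), hb 1 (by norm_num), v0]; rfl
    · rw [hh t (bpt 1) (bpt 2) (by rw [t1, t2]), hb 2 (by norm_num), v1]; rfl
    · rw [hh t (bpt 2) (bpt 0) (by rw [t2, t0, hggg]), hb 0 (by norm_num), v2]; rfl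
    · rw [hh t (bpt 3) (bpt 3) (by rw [t3, hfe]), hb 3 (by norm_num), v3]; rfl
  · obtain ⟨t, ht, htl⟩ := exists_map_list (l := [bpt 0, bpt 1, bpt 2, bpt 3, bpt 4])
      (l' := [a, g a, g (g a), e, g e]) (by decide +kernel)
      (by simp [hab, hac, hbc, Ne.symm ea, Ne.symm eb, Ne.symm ec, Ne.symm fa, Ne.symm fb,
        Ne.symm fc, Ne.symm hfe]) rfl (by decide)
    simp only [List.map_cons, List.map_nil, List.cons.injEq, and_true] at htl
    obtain ⟨t0, t1, t2, t3, t4⟩ := htl
    refine ⟨t, ht, conj_rep (hH 1 (by norm_num)) (mul_mem (mul_mem (inv_mem ht) hg) ht)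
      (hconj t) fun i hi => ?_⟩
    have e0 := h2.2.1
    simp only [List.range_succ, List.range_zero, List.map_append, List.map_cons, List.map_nil,
      List.nil_append, List.cons_append, List.cons.injEq, and_true] at e0
    obtain ⟨v0, v1, v2, v3⟩ := e0
    interval_cases i
    · rw [hh t (bpt 0) (bpt 1) (by rw [t0, t1]), hb 1 (by norm_num), v0]; rfl
    · rw [hh t (bpt 1) (bpt 2) (by rw [t1, t2]), hb 2 (by norm_num), v1]; rfl
    · rw [hh t (bpt 2) (bpt 0) (by rw [t2, t0, hggg]), hb 0 (by norm_num), v2]; rfl
    · rw [hh t (bpt 3) (bpt 4) (by rw [t3, t4]), hb 4 (by norm_num), v3]; rfl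

theorem rep_orders : (∀ p, repA (repA (repA p)) = p) ∧ (∀ p, repB (repB (repB p)) = p) := by
  have h := three_check
  simp only [Bool.and_eq_true] at h
  have hA := validPerm_of_isAut h.1.2
  have hB := validPerm_of_isAut h.2
  refine ⟨fun p => idx_injective ?_, fun p => idx_injective ?_⟩
  · rw [repA, idx_toPerm hA, idx_toPerm hA, idx_toPerm hA]
    exact (by decide +kernel : ∀ p : GolayPt,
      fn threeRepA (fn threeRepA (fn threeRepA (idx p))) = idx p) p
  · rw [repB, idx_toPerm hB, idx_toPerm hB, idx_toPerm hB]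
    exact (by decide +kernel : ∀ p : GolayPt,
      fn threeRepB (fn threeRepB (fn threeRepB (idx p))) = idx p) p

theorem fixed_rep {d : ℕ} (hd : validPerm d = true) :
    (Finset.univ.filter fun p => toPerm d p = p) =
      Finset.univ.filter fun p => fn d (idx p) = idx p :=
  Finset.filter_congr fun p _ => by
    rw [← idx_toPerm hd]
    exact idx_injective.eq_iff.symm

theorem fixed_repA : (Finset.univ.filter fun p => repA p = p).card = 6 := by
  have h := three_check
  simp only [Bool.and_eq_true] at h
  rw [repA, fixed_rep (validPerm_of_isAut h.1.2)]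
  decide +kernel

theorem fixed_repB : ∀ p, repB p ≠ p := by
  intro p hp
  have h := three_check
  simp only [Bool.and_eq_true] at h
  have e := congrArg idx hp
  rw [repB, idx_toPerm (validPerm_of_isAut h.2)] at e
  exact (by decide +kernel : ∀ p : GolayPt, fn threeRepB (idx p) ≠ idx p) p e

/-- Conjugates fix equally many points. -/
theorem card_fixed_conj (k g : Equiv.Perm GolayPt) :
    (Finset.univ.filter fun p => (k * g * k⁻¹) p = p).card =
      (Finset.univ.filter fun p => g p = p).card := by
  refine (Finset.card_equiv k fun p => ?_).symm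
  refine Iff.trans ?_ (Finset.mem_filter (s := Finset.univ)
    (p := fun q => (k * g * k⁻¹) q = q) (a := k p)).symm
  simp

end Cfsg.Agent.GolayClasses
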